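import Cfsg.Agent.H459.Inv.Base
import Cfsg.Agent.H973.Rad.Conway
import Cfsg.Agent.H45.Thin.Leech
import Cfsg.Agent.H419.Spor.Co3
import Cfsg.Agent.H419.Spor.Co2
import Cfsg.Agent.BpSpor.Inn.Base
import Cfsg.Agent.SporadicA.MathieuRecog
import Cfsg.Agent.SporadicA.DegreePrime
import Cfsg.Agent.S2070
import Cfsg.Agent.S2071
import Cfsg.Agent.S2072
import Cfsg.Agent.S2073

/-!
# S3830: the rows `HS`, `McL`, `Co₃`, `Co₂` (helper216)

* `irow_of_inner` : if the automorphisms of order `p` are inner and each element of order `p` satisfies `NS`, then `IRow p K`;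
* `ns_of_hom_simple` : a simple subgroup (image of `f`) of index prime to `p`, by the induction hypothesis;
* `irow_HS`, `irow_McL`, `irow_Co3`, `irow_Co2`.
-/

set_option autoImplicit false

namespace Cfsg.Agent.H216.InvConway

open Subgroup Cfsg Cfsg.Agent.H459.Inv Cfsg.Agent.H973.Rad Cfsg.Agent.H792.SpU35 Cfsg.Agent.CpAut

universe u

/-- all automorphisms of order `p` are inner, and all elements of order `p` satisfy `NS` -/
theorem irow_of_inner {K : Type*} [Group K] {p : ℕ} (hc : center K = ⊥) (hi : AutInner p K)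
    (h : ∀ g : K, orderOf g = p → NS (MulAut.conj g)) : IRow p K := by
  intro x hx
  obtain ⟨g, rfl⟩ := hi x hx
  exact h g (by rw [← orderOf_conj hc g, hx])

theorem center_bot {K : Type*} [Group K] [Finite K] [IsSimpleGroup K] (h : ¬ (Nat.card K).Prime) : center K = ⊥ := by
  rcases Subgroup.Normal.eq_bot_or_eq_top (H := center K) inferInstance with h1 | h1
  · exact h1
  · exfalso
    have h2 : ∀ a b : K, a * b = b * a := fun a b => by
      have h3 : a ∈ center K := by rw [h1]; exact mem_top a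
      exact (mem_center_iff.1 h3 b).symm
    let _ : CommGroup K := { (inferInstance : Group K) with mul_comm := h2 }
    exact h IsSimpleGroup.prime_card

theorem not_comm_of_card {K : Type*} [Group K] [Finite K] [IsSimpleGroup K] (h : ¬ (Nat.card K).Prime) :
    ¬ IsMulCommutative K := by
  intro hcom
  let _ : CommGroup K := { (inferInstance : Group K) with mul_comm := fun a b => hcom.is_comm.comm a b }
  exact h IsSimpleGroup.prime_card

/-- **a simple subgroup of index prime to `p`** (the image of `f`), by the induction hypothesis -/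
theorem ns_of_hom_simple {K : Type u} [Group K] [Finite K] {p : ℕ} (hp : p.Prime) (hI : IH.{u} p (Nat.card K))
    {H : Type*} [Group H] [Finite H] [hs : IsSimpleGroup H] (hH : ¬ (Nat.card H).Prime) (f : H →* K)
    (hf : Function.Injective f) (hlt : Nat.card H < Nat.card K) (hi : ¬ p ∣ Nat.card K / Nat.card H) {g : K}
    (hg : orderOf g = p) : NS (MulAut.conj g) := by
  have hpf : Fact p.Prime := ⟨hp⟩
  have hc : Nat.card f.range = Nat.card H := (Nat.card_congr (MonoidHom.ofInjective hf).toEquiv).symm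
  have hsM : IsSimpleGroup f.range := (MonoidHom.ofInjective hf).symm.isSimpleGroup
  -- a conjugate of `g` lies in `f.range`
  have hidx : ¬ p ∣ f.range.index := by
    intro h1
    apply hi
    have h2 := f.range.card_mul_index
    rw [hc] at h2
    rw [← h2, Nat.mul_div_cancel_left _ Nat.card_pos]
    exact h1
  have hP : IsPGroup p (zpowers g) := IsPGroup.of_card (n := 1) (by rw [Nat.card_zpowers, hg, pow_one])
  have hfin : Finite (K ⧸ f.range) := inferInstance
  obtain ⟨q, hq⟩ := hP.nonempty_fixed_point_of_prime_not_dvd_card (α := K ⧸ f.range) hidx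
  obtain ⟨k, rfl⟩ := QuotientGroup.mk_surjective q
  have h1 : k⁻¹ * g * k ∈ f.range := by
    have h2 := hq ⟨g, mem_zpowers g⟩
    have h3 : ((g * k : K) : K ⧸ f.range) = (k : K ⧸ f.range) := h2
    have h4 := QuotientGroup.eq.1 h3.symm
    rwa [← mul_assoc] at h4
  -- apply the induction hypothesis
  set m : f.range := ⟨k⁻¹ * g * k, h1⟩ with hm
  have hcM : center f.range = ⊥ := center_bot (by rw [hc]; exact hH)
  have hmo : orderOf m = p := by
    rw [← Subgroup.orderOf_coe]
    show orderOf (k⁻¹ * g * k) = p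
    have h2 : k⁻¹ * g * k = MulAut.conj k⁻¹ g := by simp
    rw [h2, MulEquiv.orderOf_eq, hg]
  have hns : NS (MulAut.conj m) := by
    refine hI f.range (not_comm_of_card (by rw [hc]; exact hH)) (by rw [hc]; exact hlt) _ ?_
    rw [orderOf_conj hcM, hmo]
  obtain ⟨y, hy, hn⟩ := ns_inner_iff.1 hns
  refine ns_of_conj (g := MulAut.conj k⁻¹) ?_
  have h5 : MulAut.conj k⁻¹ * MulAut.conj g * (MulAut.conj k⁻¹)⁻¹ = MulAut.conj (k⁻¹ * g * k) := by
    rw [← map_inv, ← map_mul, ← map_mul, inv_inv]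
  rw [h5]
  refine ns_of_inner (y := (y : K)) (by rw [Subgroup.orderOf_coe]; exact hy) fun hs => hn ?_
  have h6 : (closure ({m, y} : Set f.range)).map f.range.subtype = closure ({k⁻¹ * g * k, (y : K)} : Set K) := by
    rw [MonoidHom.map_closure, Set.image_pair]
    rfl
  rw [← h6] at hs
  refine Group.isSolvable_of_isSolvable_injective (f := (f.range.subtype.subgroupMap (closure {m, y}))) ?_
  intro a b hab
  have h7 : f.range.subtype (a : f.range) = f.range.subtype (b : f.range) :=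
    congrArg (fun z : ↥((closure ({m, y} : Set f.range)).map f.range.subtype) => (z : K)) hab
  exact Subtype.ext (f.range.subtype_injective h7)

/-! ### The Mathieu groups -/

theorem card_M22 : Nat.card Spor.M22 = 443520 := SporadicA.MathieuRecog.card_M22

theorem card_M23 : Nat.card Spor.M23 = 10200960 := SporadicA.MathieuRecog.card_M23

theorem simple_M22 : IsSimpleGroup Spor.M22 := SporadicA.MathieuRecog.simple_M22

theorem simple_M23 : IsSimpleGroup Spor.M23 := by
  let _ := SporadicA.MathieuRecog.act23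
  have _ := SporadicA.MathieuRecog.act23_faithful
  refine Cfsg.Agent.SporadicA.DegreePrime.isSimpleGroup_of_card_degree23 (Ω := SporadicA.MathieuRecog.Pt23) ?_ card_M23
  rw [Nat.card_eq_fintype_card]
  decide +kernel

open Cfsg.Agent.H419.LeechFix in
/-- `M23` as a point stabiliser -/
def j23 : Spor.M23 →* St1 where
  toFun g := ⟨⟨g.1, g.2.1⟩, g.2.2⟩
  map_one' := rfl
  map_mul' _ _ := rfl

theorem j23_injective : Function.Injective j23 := fun _ _ h =>
  Subtype.ext (congrArg (fun z : Cfsg.Agent.H419.LeechFix.St1 => ((z : M24) : Equiv.Perm GolayPt)) h)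

theorem perm_injective {a b : Cfsg.Agent.H419.LeechFix.St1}
    (h : Cfsg.Agent.SporadicA.Co0Mono.permCo0 (a : M24) = Cfsg.Agent.SporadicA.Co0Mono.permCo0 (b : M24)) : a = b :=
  Subtype.ext (Cfsg.Agent.CoOneType.Thirteen.permCo0_injective h)

theorem k3_injective : Function.Injective Cfsg.Agent.H419.Spor.Co3.k := fun a b h =>
  perm_injective (by rw [← Cfsg.Agent.H419.Spor.Co3.inc_k, ← Cfsg.Agent.H419.Spor.Co3.inc_k, h])

theorem k2_injective : Function.Injective Cfsg.Agent.H419.Spor.Co2.k := fun a b h =>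
  perm_injective (by rw [← Cfsg.Agent.H419.Spor.Co2.inc_k, ← Cfsg.Agent.H419.Spor.Co2.inc_k, h])

/-! ### Format -/

/-- `X` has a simple subgroup of index prime to `p` -/
def Sub (p : ℕ) (X : Type) [Group X] : Prop :=
  ∃ (H : Type) (_ : Group H) (_ : Finite H) (_ : IsSimpleGroup H) (f : H →* X), ¬ (Nat.card H).Prime ∧
    Function.Injective f ∧ Nat.card H < Nat.card X ∧ ¬ p ∣ Nat.card X / Nat.card H

theorem Sub.mk {p n m : ℕ} {X : Type} [Group X] {H : Type} [Group H] (hs : IsSimpleGroup H) (f : H →* X)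
    (hf : Function.Injective f) (hX : Nat.card X = n) (hH : Nat.card H = m) (hm : m ≠ 0) (hp : ¬ m.Prime) (hlt : m < n)
    (hi : ¬ p ∣ n / m) : Sub p X := by
  refine ⟨H, inferInstance, Nat.finite_of_card_ne_zero (by rw [hH]; exact hm), hs, f, ?_, hf, ?_, ?_⟩
  · rw [hH]; exact hp
  · rw [hH, hX]; exact hlt
  · rw [hH, hX]; exact hi

theorem irow_of_sub {K : Type u} [Group K] [Finite K] [IsSimpleGroup K] {X : Type} [Group X] (e : K ≃* X)
    (hX : ¬ (Nat.card X).Prime) {m : ℕ} (hout : Nat.card (Out X) = m) (hm : m ∣ 2) {p : ℕ} (hp : p.Prime) (hp2 : p ≠ 2)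
    (hI : IH.{u} p (Nat.card K)) (h : p ∣ Nat.card X → Sub p X) : IRow p K := by
  have hcard : Nat.card K = Nat.card X := Nat.card_congr e.toEquiv
  have hinn : AutInner p K := by
    refine (BpSpor.Inn.OddInn.congr e (BpSpor.Inn.of_dvd_two ?_)) p hp hp2
    have h1 : (MulAut.conj : X →* MulAut X).range.index = m := hout
    rw [h1]; exact hm
  refine irow_of_inner (center_bot (by rw [hcard]; exact hX)) hinn fun g hg => ?_
  obtain ⟨H, _, _, hs, f, h1, h2, h3, h4⟩ := h (by rw [← hcard, ← hg]; exact orderOf_dvd_natCard g)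
  refine ns_of_hom_simple hp hI h1 (e.symm.toMonoidHom.comp f) ?_ (by rw [hcard]; exact h3) (by rw [hcard]; exact h4) hg
  rw [MonoidHom.coe_comp]
  exact e.symm.injective.comp h2

/-- `PSU₃(5)` in the stabiliser of a triangle -/
theorem Tri_sub {v w x : leechLattice} (T : Tri v w x) (K : Subgroup (Equiv.Perm leechLattice))
    {n p : ℕ} (hn : Nat.card K = n) (hlt : 126000 < n) (hi : ¬ p ∣ n / 126000)
    (hK : ∀ g : Co0, g • v = v → g • w = w → g • x = x → (g : Equiv.Perm leechLattice) ∈ K) : Sub p K := by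
  obtain ⟨F, _, _, hF⟩ := exists_field
  obtain ⟨e⟩ := T.exists_hom hF
  let W := MulAction.stabilizer Co0 v ⊓ MulAction.stabilizer Co0 w ⊓ MulAction.stabilizer Co0 x
  let f : W →* K := (Co0.subtype.comp W.subtype).codRestrict K fun g => hK g.1 g.2.1.1 g.2.1.2 g.2.2
  have hf : Function.Injective f := by
    intro a b h
    have h1 := congrArg Subtype.val h
    exact Subtype.ext (Subtype.ext h1)
  have hcard := card_psu hF
  have hs : IsSimpleGroup (PSU 3 F 5) := S0283.result (by rw [hF]; norm_num) 3 le_rfl (by norm_num)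
  refine Sub.mk hs (f.comp e.toMonoidHom) ?_ hn hcard (by norm_num) (by norm_num) hlt hi
  rw [MonoidHom.coe_comp]
  exact hf.comp e.injective

/-- the prime divisors of a number `2^a 3^b 5^c 7^d 11^e 23^f` -/
theorem prime_cases {p n : ℕ} (hp : p.Prime) (h5 : 5 ≤ p) (a b c d e f : ℕ)
    (hn : n = 2 ^ a * 3 ^ b * 5 ^ c * 7 ^ d * 11 ^ e * 23 ^ f) (h : p ∣ n) : p = 5 ∨ p = 7 ∨ p = 11 ∨ f ≠ 0 ∧ p = 23 := by
  have key : ∀ q k : ℕ, q.Prime → p ∣ q ^ k → k ≠ 0 ∧ p = q := by
    intro q k hq h1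
    refine ⟨?_, (Nat.prime_dvd_prime_iff_eq hp hq).1 (hp.dvd_of_dvd_pow h1)⟩
    rintro rfl
    rw [pow_zero] at h1
    exact hp.one_lt.ne' (Nat.dvd_one.1 h1)
  rw [hn, hp.dvd_mul, hp.dvd_mul, hp.dvd_mul, hp.dvd_mul, hp.dvd_mul] at h
  rcases h with ((((h | h) | h) | h) | h) | h
  · have := (key 2 a (by norm_num) h).2; omega
  · have := (key 3 b (by norm_num) h).2; omega
  · exact Or.inl (key 5 c (by norm_num) h).2
  · exact Or.inr (Or.inl (key 7 d (by norm_num) h).2)
  · exact Or.inr (Or.inr (Or.inl (key 11 e (by norm_num) h).2))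
  · exact Or.inr (Or.inr (Or.inr (key 23 f (by norm_num) h)))

/-! ### The rows -/

section Rows

variable {K : Type u} [Group K] [Finite K] [IsSimpleGroup K]

theorem sub_HS {p : ℕ} (hp : p.Prime) (h5 : 5 ≤ p) (h : p ∣ Nat.card Spor.HS) : Sub p Spor.HS := by
  rw [card_HS] at h
  obtain ⟨x, T⟩ := exists_tri sq_V hs_pair.1 hs_pair.2
  have h23 : ∀ q : ℕ, ¬ q ∣ 44352000 / 126000 → Sub q Spor.HS := fun q hq =>
    Tri_sub T Spor.HS card_HS (by norm_num) hq fun g h1 h2 _ => mem_HS h1 h2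
  rcases prime_cases hp h5 9 2 3 1 1 0 (by norm_num) h with rfl | rfl | rfl | ⟨h0, -⟩
  · exact h23 5 (by norm_num)
  · exact h23 7 (by norm_num)
  · exact Sub.mk simple_M22 Cfsg.Agent.H45.Thin.Leech.embH Cfsg.Agent.H45.Thin.Leech.embH_injective card_HS card_M22
      (by norm_num) (by norm_num) (by norm_num) (by norm_num)
  · exact absurd rfl h0

theorem sub_McL {p : ℕ} (hp : p.Prime) (h5 : 5 ≤ p) (h : p ∣ Nat.card Spor.McL) : Sub p Spor.McL := by
  rw [card_McL] at h
  obtain ⟨x, T⟩ := exists_tri_mcl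
  have h23 : ∀ q : ℕ, ¬ q ∣ 898128000 / 126000 → Sub q Spor.McL := fun q hq =>
    Tri_sub T Spor.McL card_McL (by norm_num) hq fun g _ h1 h2 => ⟨⟨g.2, h1⟩, h2⟩
  rcases prime_cases hp h5 7 6 3 1 1 0 (by norm_num) h with rfl | rfl | rfl | ⟨h0, -⟩
  · exact h23 5 (by norm_num)
  · exact h23 7 (by norm_num)
  · exact Sub.mk simple_M22 Cfsg.Agent.H45.Thin.Leech.embM Cfsg.Agent.H45.Thin.Leech.embM_injective card_McL card_M22
      (by norm_num) (by norm_num) (by norm_num) (by norm_num)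
  · exact absurd rfl h0

theorem sub_Co3 {p : ℕ} (hp : p.Prime) (h5 : 5 ≤ p) (h : p ∣ Nat.card Spor.Co3) : Sub p Spor.Co3 := by
  rw [card_Co3] at h
  obtain ⟨x, T⟩ := exists_tri sq_V hs_pair.1 hs_pair.2
  have h57 : ∀ q : ℕ, ¬ q ∣ 495766656000 / 126000 → Sub q Spor.Co3 := fun q hq =>
    Tri_sub T Spor.Co3 card_Co3 (by norm_num) hq fun g h1 _ _ => ⟨g.2, h1⟩
  have h23 : ∀ q : ℕ, ¬ q ∣ 495766656000 / 10200960 → Sub q Spor.Co3 := fun q hq =>
    Sub.mk simple_M23 (Cfsg.Agent.H419.Spor.Co3.k.comp j23) (k3_injective.comp j23_injective) card_Co3 card_M23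
      (by norm_num) (by norm_num) (by norm_num) hq
  rcases prime_cases hp h5 10 7 3 1 1 1 (by norm_num) h with rfl | rfl | rfl | ⟨-, rfl⟩
  · exact h57 5 (by norm_num)
  · exact h57 7 (by norm_num)
  · exact h23 11 (by norm_num)
  · exact h23 23 (by norm_num)

theorem sub_Co2 {p : ℕ} (hp : p.Prime) (h5 : 5 ≤ p) (h : p ∣ Nat.card Spor.Co2) : Sub p Spor.Co2 := by
  rw [card_Co2] at h
  obtain ⟨x, T⟩ := exists_tri_mcl
  have h57 : ∀ q : ℕ, ¬ q ∣ 42305421312000 / 126000 → Sub q Spor.Co2 := fun q hq =>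
    Tri_sub T Spor.Co2 card_Co2 (by norm_num) hq fun g _ _ h2 => ⟨g.2, h2⟩
  have h23 : ∀ q : ℕ, ¬ q ∣ 42305421312000 / 10200960 → Sub q Spor.Co2 := fun q hq =>
    Sub.mk simple_M23 (Cfsg.Agent.H419.Spor.Co2.k.comp j23) (k2_injective.comp j23_injective) card_Co2 card_M23
      (by norm_num) (by norm_num) (by norm_num) hq
  rcases prime_cases hp h5 18 6 3 1 1 1 (by norm_num) h with rfl | rfl | rfl | ⟨-, rfl⟩
  · exact h57 5 (by norm_num)
  · exact h57 7 (by norm_num)
  · exact h23 11 (by norm_num)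
  · exact h23 23 (by norm_num)

theorem irow_HS (h : Cfsg.Spor.IsoHS K) {p : ℕ} [hpf : Fact p.Prime] (hp : 5 ≤ p) (hI : IH.{u} p (Nat.card K)) :
    IRow p K := by
  obtain ⟨e⟩ := h
  exact irow_of_sub e (by rw [card_HS]; norm_num) S2072.result (by norm_num) hpf.out (by omega) hI
    (sub_HS hpf.out hp)

theorem irow_McL (h : Cfsg.Spor.IsoMcL K) {p : ℕ} [hpf : Fact p.Prime] (hp : 5 ≤ p) (hI : IH.{u} p (Nat.card K)) :
    IRow p K := by
  obtain ⟨e⟩ := h
  exact irow_of_sub e (by rw [card_McL]; norm_num) S2073.result (by norm_num) hpf.out (by omega) hI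
    (sub_McL hpf.out hp)

theorem irow_Co3 (h : Cfsg.Spor.IsoCo3 K) {p : ℕ} [hpf : Fact p.Prime] (hp : 5 ≤ p) (hI : IH.{u} p (Nat.card K)) :
    IRow p K := by
  obtain ⟨e⟩ := h
  exact irow_of_sub e (by rw [card_Co3]; norm_num) S2071.result (by norm_num) hpf.out (by omega) hI
    (sub_Co3 hpf.out hp)

theorem irow_Co2 (h : Cfsg.Spor.IsoCo2 K) {p : ℕ} [hpf : Fact p.Prime] (hp : 5 ≤ p) (hI : IH.{u} p (Nat.card K)) :
    IRow p K := by
  obtain ⟨e⟩ := h
  exact irow_of_sub e (by rw [card_Co2]; norm_num) S2070.result (by norm_num) hpf.out (by omega) hI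
    (sub_Co2 hpf.out hp)

end Rows

end Cfsg.Agent.H216.InvConway
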